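import Cfsg.Agent.Fusion.Residual
import Cfsg.Agent.Layer.PConstraint
import Cfsg.Agent.Core.FaithfulTI
import Cfsg.Agent.Coprime.Basic

/-!
p-solvable groups in which every maximal subgroup has a normal p-complement or prime index:
the quotient by the p',p-core has a normal p-complement.
-/

set_option autoImplicit false

namespace Cfsg.Agent.PLenMax

open Subgroup
open scoped Pointwise

variable {p : ℕ} [hp : Fact p.Prime] {G : Type*} [Group G] [Finite G]

/-- The hypothesis on maximal subgroups. -/
def Cond (p : ℕ) (G : Type*) [Group G] : Prop :=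
  ∀ M : Subgroup G, IsCoatom M →
    (∃ K : Subgroup ↥M, K.Normal ∧ ¬ p ∣ Nat.card K ∧ ∃ k : ℕ, K.index = p ^ k) ∨ (M.index).Prime

omit [Finite G] in
theorem npc_of_cond {M : Subgroup G} [Finite M]
    (h : ∃ K : Subgroup ↥M, K.Normal ∧ ¬ p ∣ Nat.card K ∧ ∃ k : ℕ, K.index = p ^ k) :
    Cfsg.HasNormalPComplement p M :=
  let ⟨K, hK, hc, hk⟩ := h
  Fusion.hasNormalPComplement_iff_exists.2 ⟨K, hK, (hp.out.coprime_iff_not_dvd.2 hc).symm, hk⟩

/-- Normal p-complements pass to subdirect products. -/
theorem npc_iInf {ι : Type*} (N : ι → Subgroup G) [∀ i, (N i).Normal] [(⨅ i, N i).Normal]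
    (h : ∀ i, Cfsg.HasNormalPComplement p (G ⧸ N i)) :
    Cfsg.HasNormalPComplement p (G ⧸ ⨅ i, N i) := by
  set W := ⨅ i, N i with hW
  rw [Fusion.hasNormalPComplement_iff_mul_closed]
  intro x y hx hy
  obtain ⟨a, rfl⟩ := QuotientGroup.mk'_surjective W x
  obtain ⟨b, rfl⟩ := QuotientGroup.mk'_surjective W y
  have hn0 : Nat.card G ≠ 0 := Nat.card_pos.ne'
  set m := Nat.card G / p ^ (Nat.card G).factorization p with hm
  have hmc : m.Coprime p := (Nat.coprime_ordCompl hp.out hn0).symm
  have himg : ∀ (i : ι) (g : G), (orderOf (QuotientGroup.mk' W g)).Coprime p →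
      (orderOf (QuotientGroup.mk' (N i) g)).Coprime p := fun i g hg => by
    have hle : W ≤ (N i).comap (MonoidHom.id G) := iInf_le N i
    exact hg.coprime_dvd_left (orderOf_map_dvd (QuotientGroup.map W (N i) (MonoidHom.id G) hle) _)
  refine hmc.coprime_dvd_left (orderOf_dvd_of_pow_eq_one ?_)
  rw [← map_mul, ← map_pow, QuotientGroup.mk'_apply, QuotientGroup.eq_one_iff, hW, mem_iInf]
  intro i
  rw [← QuotientGroup.eq_one_iff, ← QuotientGroup.mk'_apply, map_pow]
  refine orderOf_dvd_iff_pow_eq_one.1 ?_
  have hc := (Fusion.hasNormalPComplement_iff_mul_closed.1 (h i)) _ _ (himg i a hx) (himg i b hy)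
  rw [← map_mul] at hc
  have hd : orderOf (QuotientGroup.mk' (N i) (a * b)) ∣ p ^ (Nat.card G).factorization p * m := by
    rw [hm, Nat.ordProj_mul_ordCompl_eq_self]
    exact (orderOf_map_dvd _ _).trans (orderOf_dvd_natCard _)
  exact (hc.pow_right _).dvd_of_dvd_mul_left hd

theorem cond_quotient (h : Cond p G) (N : Subgroup G) [N.Normal] : Cond p (G ⧸ N) := by
  intro M hM
  have hs := QuotientGroup.mk'_surjective N
  have hi := index_comap_of_surjective M hs
  rcases h _ (Subgroup.isCoatom_comap_of_surjective hs hM) with hk | hk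
  · left
    have hg := Fusion.hasNormalPComplement_of_surjective
      ((QuotientGroup.mk' N).subgroupComap M)
      (MonoidHom.subgroupComap_surjective_of_surjective _ _ hs) (npc_of_cond hk)
    obtain ⟨K, hK, hc, hk'⟩ := Fusion.hasNormalPComplement_iff_exists.1 hg
    exact ⟨K, hK, hp.out.coprime_iff_not_dvd.1 hc.symm, hk'⟩
  · right; rwa [← hi]

/-- The quotient by the `p`-core has a normal `p`-complement when the `p'`-core is trivial. -/
theorem npc_quotient_pCore (hsol : Cfsg.IsPSolvable p G) (hO : Cfsg.pPrimeCore p G = ⊥)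
    (hc : Cond p G) : Cfsg.HasNormalPComplement p (G ⧸ Cfsg.pCore p G) := by
  set T := Cfsg.pCore p G with hTdef
  have hTp : IsPGroup p T := Core.pCore_isPGroup
  haveI : Group.IsNilpotent T := hTp.isNilpotent
  have hU : ∀ M : {M : Subgroup G // IsCoatom M ∧ ¬ T ≤ M}, (T ⊓ M.1).Normal := by
    rintro ⟨M, hM, hTM⟩
    have hlt : (T ⊓ M).subgroupOf T < ⊤ :=
      lt_top_iff_ne_top.2 fun h => hTM fun t ht => ((subgroupOf_eq_top.1 h) ht).2
    obtain ⟨t, ht, htU⟩ := SetLike.exists_of_lt (Group.normalizerCondition_of_isNilpotent _ hlt)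
    rw [← normalizer_eq_top_iff]
    have hMle : M ≤ normalizer ((T ⊓ M : Subgroup G) : Set G) := by
      intro g hg
      rw [mem_normalizer_iff]
      intro x
      constructor
      · rintro ⟨h1, h2⟩
        exact ⟨Normal.conj_mem inferInstance x h1 g, M.mul_mem (M.mul_mem hg h2) (M.inv_mem hg)⟩
      · rintro ⟨h1, h2⟩
        have e : x = g⁻¹ * (g * x * g⁻¹) * g⁻¹⁻¹ := by group
        rw [e]
        exact ⟨Normal.conj_mem inferInstance _ h1 g⁻¹,
          M.mul_mem (M.mul_mem (M.inv_mem hg) h2) (M.inv_mem (M.inv_mem hg))⟩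
    by_contra hne
    have heq := (hM.le_iff.1 hMle).resolve_left hne
    have htn : (t : G) ∈ normalizer ((T ⊓ M : Subgroup G) : Set G) := by
      rw [mem_normalizer_iff] at ht ⊢
      intro x
      constructor
      · intro hx
        exact (ht ⟨x, hx.1⟩).1 hx
      · intro hx
        have hxT : x ∈ T := by
          have h1 := T.mul_mem (T.mul_mem (T.inv_mem t.2) hx.1) t.2
          rwa [show (t : G)⁻¹ * (t * x * (t : G)⁻¹) * t = x by group] at h1
        exact (ht ⟨x, hxT⟩).2 hx
    rw [heq] at htn
    exact htU ⟨t.2, htn⟩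
  let C : {M : Subgroup G // IsCoatom M ∧ ¬ T ≤ M} → Subgroup G := fun M =>
    haveI := hU M
    (centralizer ((T.map (QuotientGroup.mk' (T ⊓ M.1)) : Subgroup _) : Set _)).comap
      (QuotientGroup.mk' (T ⊓ M.1))
  haveI hCn : ∀ M, (C M).Normal := fun M => by
    haveI := hU M
    haveI : (T.map (QuotientGroup.mk' (T ⊓ M.1))).Normal :=
      Normal.map inferInstance _ (QuotientGroup.mk'_surjective _)
    exact Normal.comap inferInstance _
  have hloc : ∀ M, Cfsg.HasNormalPComplement p (G ⧸ C M) ∧ T ≤ C M := by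
    rintro ⟨M, hM, hTM⟩
    haveI := hU ⟨M, hM, hTM⟩
    set f := QuotientGroup.mk' (T ⊓ M) with hf
    have hfs : Function.Surjective f := QuotientGroup.mk'_surjective _
    set V := T.map f with hV
    set Mb := M.map f with hMb
    haveI hVn : V.Normal := Normal.map inferInstance _ hfs
    have hMc : Mb.comap f = M := by
      rw [hMb, comap_map_eq, QuotientGroup.ker_mk', sup_eq_left]
      exact inf_le_right
    have hdis : V ⊓ Mb = ⊥ := by
      rw [eq_bot_iff]
      rintro _ ⟨⟨t, ht, rfl⟩, h2⟩
      have htM : t ∈ Mb.comap f := h2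
      rw [hMc] at htM
      exact (QuotientGroup.eq_one_iff t).2 ⟨ht, htM⟩
    have hcoat : IsCoatom Mb := by
      refine ⟨fun h => hM.1 (by rw [← hMc, h, comap_top]), fun K hK => ?_⟩
      have h1 : M < K.comap f := by have := (comap_lt_comap_of_surjective hfs).2 hK; rwa [hMc] at this
      rw [← map_comap_eq_self_of_surjective hfs K, hM.2 _ h1, map_top_of_surjective f hfs]
    have hVM : ¬ V ≤ Mb := fun h => hTM fun t ht => by
      have : t ∈ Mb.comap f := h (mem_map_of_mem f ht)
      rwa [hMc] at this
    have hVp : IsPGroup p V := hTp.map _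
    haveI : Nontrivial V :=
      (nontrivial_iff_ne_bot V).2 fun h => hVM (h ▸ bot_le)
    set Z := (center V).map V.subtype with hZ
    have hZV : Z ≤ V := map_subtype_le _
    have hZ1 : Z ≠ ⊥ := fun h =>
      (nontrivial_iff_ne_bot _).1 hVp.center_nontrivial
        ((map_eq_bot_iff_of_injective _ V.subtype_injective).1 h)
    have hsup : Z ⊔ Mb = ⊤ := (hcoat.le_iff.1 le_sup_right).resolve_right fun h =>
      hZ1 (eq_bot_iff.2 (hdis ▸ le_inf hZV (h ▸ le_sup_left)))
    have hcomm : ∀ v ∈ V, ∀ w ∈ V, v * w = w * v := by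
      intro v hv w hw
      have hv' : v ∈ Z ⊔ Mb := hsup ▸ mem_top v
      obtain ⟨z, hz, m, hm, rfl⟩ := mem_sup_of_normal_left.1 hv'
      have hm1 : m = 1 := by
        have : m ∈ V ⊓ Mb := ⟨(mul_mem_cancel_left (hZV hz)).1 hv, hm⟩
        rwa [hdis, mem_bot] at this
      subst hm1
      obtain ⟨z', hz', rfl⟩ := hz
      rw [mul_one]
      exact congrArg Subtype.val (mem_center_iff.1 hz' ⟨w, hw⟩).symm
    have hTC : T ≤ (centralizer (V : Set _)).comap f := fun t ht =>
      mem_centralizer_iff.2 fun v hv => hcomm v hv _ (mem_map_of_mem f ht)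
    refine ⟨?_, hTC⟩
    have hTM' : T ⊔ M = ⊤ := (hM.le_iff.1 le_sup_right).resolve_right fun h => hTM (h ▸ le_sup_left)
    rcases hc M hM with hk | hk
    · refine Fusion.hasNormalPComplement_of_surjective
        ((QuotientGroup.mk' (C ⟨M, hM, hTM⟩)).comp M.subtype) ?_ (npc_of_cond hk)
      intro q
      obtain ⟨g, rfl⟩ := QuotientGroup.mk'_surjective _ q
      have hg : g ∈ T ⊔ M := hTM' ▸ mem_top g
      obtain ⟨t, ht, m, hm, rfl⟩ := mem_sup_of_normal_left.1 hg
      refine ⟨⟨m, hm⟩, ?_⟩
      rw [MonoidHom.comp_apply, map_mul]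
      show _ = (t : G ⧸ C ⟨M, hM, hTM⟩) * _
      rw [(QuotientGroup.eq_one_iff t).2 (hTC ht), one_mul]
      rfl
    · have hcompl : IsComplement' V Mb := by
        refine isComplement'_of_disjoint_and_mul_eq_univ (disjoint_iff.2 hdis) ?_
        rw [← normal_mul, (hcoat.le_iff.1 le_sup_right).resolve_right fun h => hVM (h ▸ le_sup_left),
          coe_top]
      have hcard : Nat.card V = M.index := by
        rw [← hcompl.index_eq_card, ← index_comap_of_surjective Mb hfs, hMc]
      have hVp' : Nat.card V = p := by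
        obtain ⟨n, hn⟩ := IsPGroup.iff_card.1 hVp
        rw [← hcard, hn] at hk
        rw [hn, hk.eq_one_of_pow, pow_one]
      apply Fusion.hasNormalPComplement_of_coprime
      let φ : G →* MulAut V := (MulAut.conjNormal (H := V)).comp f
      have hker : φ.ker = C ⟨M, hM, hTM⟩ := by
        ext g
        show φ g = 1 ↔ f g ∈ centralizer (V : Set _)
        rw [mem_centralizer_iff]
        constructor
        · intro h v hv
          have := congrArg Subtype.val (DFunLike.congr_fun h ⟨v, hv⟩)
          simp only [φ, MonoidHom.comp_apply, MulAut.conjNormal_apply, MulAut.one_apply] at this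
          exact (mul_inv_eq_iff_eq_mul.1 this).symm
        · intro h
          refine MulEquiv.ext fun v => Subtype.ext ?_
          simp only [φ, MonoidHom.comp_apply, MulAut.conjNormal_apply, MulAut.one_apply]
          exact mul_inv_eq_iff_eq_mul.2 (h v v.2).symm
      haveI : IsCyclic V := isCyclic_of_prime_card hVp'
      have hd : Nat.card (G ⧸ C ⟨M, hM, hTM⟩) ∣ p - 1 := by
        rw [Nat.card_congr (QuotientGroup.quotientMulEquivOfEq hker.symm).toEquiv, ← index_eq_card,
          index_ker]
        refine (card_subgroup_dvd_card φ.range).trans (dvd_of_eq ?_)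
        rw [IsCyclic.card_mulAut, hVp', Nat.totient_prime hp.out]
      refine Nat.Coprime.coprime_dvd_left hd ?_
      exact Nat.coprime_self_sub_left hp.out.one_le |>.2 (Nat.coprime_one_left p)
  have hW : (⨅ M, C M) = T := by
    have hTW : T ≤ ⨅ M, C M := le_iInf fun M => (hloc M).2
    refine le_antisymm ?_ hTW
    set W := ⨅ M, C M with hWdef
    haveI hWn : W.Normal := normal_iInf_normal hCn
    set π := QuotientGroup.mk' T with hπ
    have hπs : Function.Surjective π := QuotientGroup.mk'_surjective _
    haveI : (W.map π).Normal := hWn.map _ hπs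
    set P := Cfsg.pPrimeCore p (G ⧸ T) with hP
    set U0 := (P ⊓ W.map π).comap π with hU0
    have hWc : (W.map π).comap π = W := by
      rw [comap_map_eq, QuotientGroup.ker_mk', sup_eq_left]; exact hTW
    have hU0W : U0 ≤ W := (comap_mono inf_le_right).trans hWc.le
    have hTU0 : T ≤ U0 := fun t ht => by
      rw [hU0, mem_comap, hπ, QuotientGroup.mk'_apply, (QuotientGroup.eq_one_iff t).2 ht]
      exact one_mem _
    have hrel : T.relIndex U0 = Nat.card (P ⊓ W.map π : Subgroup _) := by
      have e := relIndex_comap (⊥ : Subgroup (G ⧸ T)) π U0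
      rwa [MonoidHom.comap_bot, QuotientGroup.ker_mk', hU0, map_comap_eq_self_of_surjective hπs,
        relIndex_bot_left] at e
    have hcop : (T.relIndex U0).Coprime p := hrel ▸
      Core.coprime_card_pPrimeCore.coprime_dvd_left (card_dvd_of_le inf_le_left)
    have hN : P ⊓ W.map π = ⊥ := by
      rw [← card_eq_one, ← hrel, relIndex_eq_one]
      obtain ⟨a, ha⟩ := IsPGroup.iff_card.1 hTp
      obtain ⟨K, hK⟩ := exists_right_complement'_of_coprime (N := T.subgroupOf U0) (by
        rw [Nat.card_congr (subgroupOfEquivOfLe hTU0).toEquiv, ha]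
        exact (hcop.pow_right a).symm)
      set H := K.map U0.subtype with hH
      have hHc : Nat.card H = T.relIndex U0 := by
        rw [hH, card_map_of_injective U0.subtype_injective, ← hK.symm.index_eq_card]
        rfl
      have hTH : T ⊔ H = U0 := by
        have e := congrArg (map U0.subtype) hK.sup_eq_top
        rwa [Subgroup.map_sup, map_subgroupOf_eq_of_le hTU0, ← MonoidHom.range_eq_map, range_subtype] at e
      have hcopH : (Nat.card H).Coprime (Nat.card T) := by
        rw [hHc, ha]; exact hcop.pow_right a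
      have hsolT : Group.IsSolvable H ∨ Group.IsSolvable T := Or.inr inferInstance
      by_contra hne
      by_cases htop : normalizer (H : Set G) = ⊤
      · haveI : H.Normal := normalizer_eq_top_iff.1 htop
        have h1 : H ≤ ⊥ := hO ▸ Core.le_pPrimeCore (by rw [hHc]; exact hcop)
        rw [le_bot_iff.1 h1, sup_bot_eq] at hTH
        exact hne hTH.ge
      obtain ⟨M, hM, hNM⟩ := (eq_top_or_exists_le_coatom _).resolve_left htop
      have hTM : ¬ T ≤ M := by
        intro hle
        refine hM.1 (eq_top_iff.2 fun g _ => ?_)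
        have hB : MulAut.conj g • H ≤ T ⊔ H := by
          rw [hTH]
          intro x hx
          rw [mem_pointwise_smul_iff_inv_smul_mem] at hx
          have hn : U0.Normal := Normal.comap inferInstance _
          have := hn.conj_mem _ ((map_subtype_le K : H ≤ U0) hx) g
          simpa [MulAut.smul_def, mul_assoc] using this
        obtain ⟨k, hk, hkH⟩ := Coprime.exists_conj_eq (le_top.trans (normalizer_eq_top _).ge) hcopH hsolT hB
          (Nat.card_congr (equivSMul (MulAut.conj g) H).symm.toEquiv)
        have hmem : k * g ∈ normalizer (H : Set G) := by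
          rw [mem_normalizer_iff_map_conj_eq]
          rw [smul_smul, ← map_mul] at hkH
          exact hkH
        have := M.mul_mem (M.inv_mem (hle hk)) (hNM hmem)
        rwa [inv_mul_cancel_left] at this
      haveI := hU ⟨M, hM, hTM⟩
      obtain ⟨t, htT, htM⟩ := SetLike.not_le_iff_exists.1 hTM
      obtain ⟨n, hn, hc'⟩ := Coprime.exists_fixed_mem_leftCoset (A := H) (N := T ⊓ M)
        (k := t) (le_top.trans (normalizer_eq_top _).ge) (hcopH.coprime_dvd_right (card_dvd_of_le inf_le_left))
        (hsolT.imp id fun h => solvable_of_solvable_injective (inclusion_injective (inf_le_left : T ⊓ M ≤ T))) (fun h hh => by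
          have hhC : h ∈ C ⟨M, hM, hTM⟩ :=
            (mem_iInf.1 (hU0W ((map_subtype_le K : H ≤ U0) hh))) ⟨M, hM, hTM⟩
          have e := mem_centralizer_iff.1 hhC _ (mem_map_of_mem _ htT)
          rw [← QuotientGroup.eq_one_iff]
          simp only [QuotientGroup.mk'_apply] at e
          rw [QuotientGroup.mk_mul, QuotientGroup.mk_mul, QuotientGroup.mk_mul, QuotientGroup.mk_inv,
            QuotientGroup.mk_inv, ← e]
          group)
      have := hNM (centralizer_le_normalizer _ hc')
      exact htM ((mul_mem_cancel_right (show n ∈ M from hn.2)).1 this)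
    have hle : W.map π ≤ P :=
      (show W.map π ≤ centralizer (P : Set (G ⧸ T)) from fun w hw => mem_centralizer_iff.2
        fun x hx => Subgroup.commute_of_normal_of_disjoint P (W.map π) inferInstance inferInstance
          (disjoint_iff.2 hN) x w hx hw).trans
      (Core.centralizer_pPrimeCore_le (Layer.isPSolvable_of_surjective hsol hπs) Core.pCore_quotient_eq_bot)
    rw [inf_eq_right.2 hle, Subgroup.map_eq_bot_iff, QuotientGroup.ker_mk'] at hN
    exact hN
  haveI : (⨅ M, C M).Normal := normal_iInf_normal hCn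
  exact (Fusion.hasNormalPComplement_congr (QuotientGroup.quotientMulEquivOfEq hW)).1
    (npc_iInf C fun M => (hloc M).1)

/-- The chain of four normal subgroups. -/
theorem exists_chain (hsol : Cfsg.IsPSolvable p G) (hc : Cond p G) :
    ∃ A B C : Subgroup G, A.Normal ∧ B.Normal ∧ C.Normal ∧ A ≤ B ∧ B ≤ C ∧ ¬ p ∣ Nat.card A ∧
      (∃ k : ℕ, A.relIndex B = p ^ k) ∧ ¬ p ∣ B.relIndex C ∧ ∃ k : ℕ, C.index = p ^ k := by
  set A := Cfsg.pPrimeCore p G
  set f := QuotientGroup.mk' A
  have hfs : Function.Surjective f := QuotientGroup.mk'_surjective _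
  set T := Cfsg.pCore p (G ⧸ A)
  set π := QuotientGroup.mk' T
  have hπs : Function.Surjective π := QuotientGroup.mk'_surjective _
  obtain ⟨N, hNn, hNc, k, hk⟩ := Fusion.hasNormalPComplement_iff_exists.1
    (npc_quotient_pCore (Layer.isPSolvable_of_surjective hsol hfs) Core.pPrimeCore_quotient_eq_bot
      (cond_quotient hc A))
  have hT1 : T ≤ N.comap π := fun t ht => by
    rw [mem_comap, QuotientGroup.mk'_apply, (QuotientGroup.eq_one_iff t).2 ht]
    exact one_mem _
  refine ⟨A, T.comap f, (N.comap π).comap f, inferInstance, inferInstance,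
    Normal.comap (Normal.comap hNn _) _, ?_, comap_mono hT1, Core.not_dvd_card_pPrimeCore, ?_, ?_,
    k, ?_⟩
  · exact fun x hx => by
      rw [mem_comap, QuotientGroup.mk'_apply, (QuotientGroup.eq_one_iff x).2 hx]
      exact one_mem _
  · obtain ⟨a, ha⟩ := IsPGroup.iff_card.1 (Core.pCore_isPGroup (p := p) (G := G ⧸ A))
    refine ⟨a, ?_⟩
    have e := relIndex_comap (⊥ : Subgroup (G ⧸ A)) f (T.comap f)
    rwa [MonoidHom.comap_bot, QuotientGroup.ker_mk', map_comap_eq_self_of_surjective hfs,
      relIndex_bot_left, ha] at e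
  · have e := relIndex_comap T f ((N.comap π).comap f)
    rw [map_comap_eq_self_of_surjective hfs] at e
    have e' := relIndex_comap (⊥ : Subgroup ((G ⧸ A) ⧸ T)) π (N.comap π)
    rw [MonoidHom.comap_bot, QuotientGroup.ker_mk', map_comap_eq_self_of_surjective hπs,
      relIndex_bot_left] at e'
    rw [e, e']
    exact hp.out.coprime_iff_not_dvd.1 hNc.symm
  · rw [index_comap_of_surjective _ hfs, index_comap_of_surjective _ hπs, hk]

end Cfsg.Agent.PLenMax
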